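import Cfsg.Agent.Lib.Fusion.IndexPower.Degree
import Cfsg.Agent.Lib.Fusion.Transfer.Exists
import Cfsg.Agent.Lib.Fusion.Hyperfocal
import Cfsg.Agent.Lib.Fusion.PPowerIndex

/-!
Existence and uniqueness of the saturated subsystems of `p`-power index.
-/

set_option autoImplicit false
set_option linter.unusedSectionVars false

universe u

namespace Cfsg.FusionSystem.IndexPower

variable {Ω : Type u} [Group Ω] {S M : Subgroup Ω} {F : FusionSystem S} {p : ℕ} [Fact p.Prime]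
  {C : F.Cocycle} {π : S →* Multiplicative (ZMod p)}

theorem pow_prime (a : Multiplicative (ZMod p)) : a ^ p = 1 := by
  apply Multiplicative.toAdd.injective
  rw [toAdd_pow, toAdd_one, nsmul_eq_mul, ZMod.natCast_self, zero_mul]

theorem exists_pow_eq {x : Multiplicative (ZMod p)} (hx : x ≠ 1) (a : Multiplicative (ZMod p)) :
    ∃ k : ℕ, x ^ k = a := by
  refine ⟨(a.toAdd * x.toAdd⁻¹).val, Multiplicative.toAdd.injective ?_⟩
  have hx' : x.toAdd ≠ 0 := fun h => hx (Multiplicative.toAdd.injective h)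
  rw [toAdd_pow, nsmul_eq_mul, ZMod.natCast_zmod_val, mul_assoc, inv_mul_cancel₀ hx', mul_one]

theorem eq_one_of_pow {m : ℕ} (hm : m.Coprime p) {x : Multiplicative (ZMod p)} (h : x ^ m = 1) : x = 1 := by
  have h1 : orderOf x ∣ 1 := hm ▸ Nat.dvd_gcd (orderOf_dvd_of_pow_eq_one h) (orderOf_dvd_of_pow_eq_one (pow_prime x))
  exact orderOf_eq_one_iff.mp (Nat.dvd_one.mp h1)

theorem exists_root {m : ℕ} (hm : m.Coprime p) (a : Multiplicative (ZMod p)) : ∃ b, (b ^ m)⁻¹ = a := by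
  obtain ⟨x, hx⟩ : ∃ x : Multiplicative (ZMod p), x ≠ 1 := ⟨Multiplicative.ofAdd 1, by simp⟩
  obtain ⟨k, hk⟩ := exists_pow_eq (inv_ne_one.mpr fun h => hx (eq_one_of_pow hm h) : (x ^ m)⁻¹ ≠ 1) a
  exact ⟨x ^ k, by rw [← hk, inv_pow, ← pow_mul, ← pow_mul, mul_comm]⟩

variable (hπ : ∀ (P : Subgroup Ω) (φ : P →* Ω) (hφ : φ ∈ F.Hom P) (u : P),
    π ⟨φ u, F.apply_mem hφ u⟩ = π ⟨u, F.source_le hφ u.2⟩)

include hπ

theorem deg_id_one (P : Subgroup Ω) : Deg C π P (fun x => x) 1 := by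
  have h := deg_conj (C := C) hπ (P := P) 1
  rw [map_one, one_pow, inv_one] at h
  exact h.congr fun x _ => by simp

theorem deg_id_of_ne {P Q : Subgroup Ω} {f : Ω → Ω} (hf : F.IsIso P Q f) {d d' : Multiplicative (ZMod p)}
    (h : Deg C π P f d) (h' : Deg C π P f d') : Deg C π P (fun x => x) (d * d'⁻¹) := by
  obtain ⟨g, hg, hgl, hgr⟩ := hf.symm
  have hm : ∀ u ∈ P, f u ∈ Q ∧ f u ∈ S := fun u hu => ⟨hf.mem hu, hf.le_right (hf.mem hu)⟩
  exact ((h.comp hm (h'.symm fun v hv => ⟨hg.mem hv, hgr v hv⟩)).congr fun x hx => (hgl x hx).symm)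

theorem deg_any {P : Subgroup Ω} {f : Ω → Ω} {d a : Multiplicative (ZMod p)} (hPS : P ≤ S)
    (h : Deg C π P f d) (ha : Deg C π P (fun x => x) a) (ha1 : a ≠ 1) (b : Multiplicative (ZMod p)) :
    Deg C π P f b := by
  have hid : ∀ u ∈ P, (fun x : Ω => x) u ∈ P ∧ (fun x : Ω => x) u ∈ S := fun u hu => ⟨hu, hPS hu⟩
  have hpow : ∀ k : ℕ, Deg C π P (fun x => x) (a ^ k) := by
    intro k
    induction k with
    | zero => rw [pow_zero]; exact deg_id_one hπ P
    | succ k ih => rw [pow_succ]; exact ih.comp hid ha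
  obtain ⟨k, hk⟩ := exists_pow_eq ha1 (b * d⁻¹)
  have h2 := (hpow k).comp hid h
  rw [hk, inv_mul_cancel_right] at h2
  exact h2

variable (hMS : M ≤ S) (hker : ∀ s : S, π s = 1 ↔ (s : Ω) ∈ M)

include hMS hker

theorem pi_of_le {P : Subgroup Ω} (hP : P ≤ M) (u : Ω) (hu : u ∈ P) : π ⟨u, hMS (hP hu)⟩ = 1 :=
  (hker _).mpr (hP hu)

/-- The maps of degree zero. -/
def degreeSystem : FusionSystem M where
  Hom P := {φ | φ ∈ F.Hom P ∧ P ≤ M ∧ Deg C π P (funOf φ) 1}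
  le_of_mem := fun {P φ} h => ⟨h.2.1, fun x => (hker ⟨φ x, F.apply_mem h.1 x⟩).mp
    ((hπ P φ h.1 x).trans ((hker _).mpr (h.2.1 x.2)))⟩
  injective_of_mem h := F.injective_of_mem h.1
  conj_mem := fun {P g} hP hg => by
    refine ⟨F.conj_mem (hP.trans hMS) (hMS hg), hP, ?_⟩
    have h := deg_conj (C := C) hπ (P := P) ⟨g, hMS hg⟩
    rw [(hker _).mpr hg, one_pow, inv_one] at h
    exact h.congr fun x hx => (funOf_apply (conjHom P g) ⟨x, hx⟩).symm
  comp_mem := fun {P Q φ ψ} hφ hψ h => by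
    refine ⟨F.comp_mem hφ.1 hψ.1 h, hφ.2.1, ?_⟩
    have hm : ∀ u ∈ P, funOf φ u ∈ Q ∧ funOf φ u ∈ S := fun u hu => by
      rw [← funOf_apply φ ⟨u, hu⟩]
      exact ⟨h _, F.apply_mem hφ.1 _⟩
    have h1 := hφ.2.2.comp hm hψ.2.2
    rw [mul_one] at h1
    refine h1.congr fun x hx => ?_
    rw [← funOf_apply (ψ.comp (φ.codRestrict Q h)) ⟨x, hx⟩, ← funOf_apply φ ⟨x, hx⟩]
    exact funOf_apply ψ ⟨φ ⟨x, hx⟩, h _⟩
  inv_mem := fun {P φ} hφ => by
    obtain ⟨ψ, hψ, hψe⟩ := F.inv_mem hφ.1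
    refine ⟨ψ, ⟨hψ, ?_, ?_⟩, hψe⟩
    · rintro _ ⟨x, rfl⟩
      exact (hker ⟨φ x, F.apply_mem hφ.1 x⟩).mp ((hπ P φ hφ.1 x).trans ((hker _).mpr (hφ.2.1 x.2)))
    · have h1 := hφ.2.2.symm (Q := φ.range) (g := funOf ψ) fun v hv => by
        obtain ⟨x, rfl⟩ := hv
        have e : funOf ψ (φ x) = x := (funOf_apply ψ ⟨φ x, _⟩).symm.trans (hψe x)
        rw [e, ← funOf_apply φ x]
        exact ⟨x.2, rfl⟩
      rw [inv_one] at h1
      exact h1

theorem degreeSystem_le : (degreeSystem (C := C) hπ hMS hker).IsSubsystemOf F := fun _ _ h => h.1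

theorem isIso_of_deg {P Q : Subgroup Ω} {f : Ω → Ω} (h : F.IsIso P Q f) (hP : P ≤ M) (hd : Deg C π P f 1) :
    (degreeSystem (C := C) hπ hMS hker).IsIso P Q f := by
  obtain ⟨φ, hφ, hr, he⟩ := h
  exact ⟨φ, ⟨hφ, hP, hd.congr fun x hx => (funOf_apply φ ⟨x, hx⟩).symm.trans (he ⟨x, hx⟩)⟩, hr, he⟩

theorem deg_of_isIso {P Q : Subgroup Ω} {f : Ω → Ω} (h : (degreeSystem (C := C) hπ hMS hker).IsIso P Q f) :
    Deg C π P f 1 := by
  obtain ⟨φ, hφ, -, he⟩ := h
  exact hφ.2.2.congr fun x hx => (he ⟨x, hx⟩).symm.trans (funOf_apply φ ⟨x, hx⟩)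

variable [Finite S] (hS : IsPGroup p S)

include hS

theorem exists_free {P R : Subgroup Ω} (hR : F.IsReceptive R) (hPR : F.IsConj P R) (hP : P ≤ M)
    {a : Multiplicative (ZMod p)} (ha : Deg C π P (fun x => x) a) (ha1 : a ≠ 1)
    (b : Multiplicative (ZMod p)) : ∃ (z : Ω) (hz : z ∈ centralizerIn S R), π ⟨z, hz.1⟩ = b := by
  haveI := finite_of_le hPR.le_left
  obtain ⟨Q, hPQ, z, hz, hz1⟩ := exists_centralizing hπ p pow_prime (hS.to_le hPR.le_left) hPR.le_left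
    (fun u hu => pi_of_le hπ hMS hker hP u hu) ha ha1
  obtain ⟨φ, hφ, hr⟩ := hPQ.symm.trans hPR
  obtain ⟨ψ, hψ, he⟩ := hR.2 Q φ hφ hr
  have hφS : ∀ x, φ x ∈ S := F.apply_mem hφ
  have hle : Q ≤ extender S Q φ := le_extender (F.source_le hφ) hφS
  have hze : z ∈ extender S Q φ := centralizerIn_le_extender hφS hz
  have hz' : ψ ⟨z, hze⟩ ∈ centralizerIn S R := ⟨F.apply_mem hψ _,
    apply_mem_centralizer (φ := φ) hle (fun x => he x x.2 (hle x.2)) hr ⟨z, hze⟩ hz.2⟩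
  have hπz : π ⟨ψ ⟨z, hze⟩, hz'.1⟩ ≠ 1 := fun h => hz1 ((hπ _ ψ hψ ⟨z, hze⟩).symm.trans h)
  obtain ⟨k, hk⟩ := exists_pow_eq hπz b
  refine ⟨ψ ⟨z, hze⟩ ^ k, pow_mem hz' k, ?_⟩
  exact (congrArg π (Subtype.ext rfl : _ = (⟨ψ ⟨z, hze⟩, hz'.1⟩ : S) ^ k)).trans ((map_pow π _ k).trans hk)

variable (hF : F.IsSaturated p) (hsurj : Function.Surjective π) (hn : (Fintype.card C.Y).Coprime p)

include hF hsurj hn

theorem degreeSystem_isSaturated : (degreeSystem (C := C) hπ hMS hker).IsSaturated p := by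
  set E := degreeSystem (C := C) hπ hMS hker with hE
  intro P hPM
  have hPS := hPM.trans hMS
  obtain ⟨R₀, hPR₀, hR₀⟩ := exists_isFullyNormalized F hPS
  obtain ⟨φ₀, hφ₀, hr₀⟩ := id hPR₀
  have hf₀ : F.IsIso P R₀ (funOf φ₀) := ⟨φ₀, hφ₀, hr₀, funOf_apply φ₀⟩
  obtain ⟨d, hd⟩ := exists_deg (C := C) (π := π) hf₀
  obtain ⟨b, hb⟩ := exists_root hn d⁻¹
  obtain ⟨s, rfl⟩ := hsurj b
  have hc := isIso_conj (E := F) hR₀.1 s.2
  set R := R₀.map (MulAut.conj (s : Ω)).toMonoidHom with hRdef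
  have hPR := hf₀.comp hc
  have hPRd := hd.comp (fun u hu => ⟨hf₀.mem hu, hf₀.le_right (hf₀.mem hu)⟩) (deg_conj hπ (P := R₀) s)
  rw [hb, mul_inv_cancel] at hPRd
  have hPRE := isIso_of_deg hπ hMS hker hPR hPM hPRd
  have hRM : R ≤ M := hPRE.le_right
  have hRn : F.IsFullyNormalized R := by
    refine ⟨hRM.trans hMS, fun Q hQ => (hR₀.2 Q (hc.isConj.trans hQ)).trans ?_⟩
    obtain ⟨K', hK', -, -⟩ := (isIso_conj (E := F) (normalizerIn_le (S := S) (P := R₀)) s.2).restrict le_rfl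
    haveI := finite_normalizerIn (S := S) (P := R)
    rw [hK'.card_eq]
    refine Subgroup.card_le_of_le fun y hy => ?_
    obtain ⟨x, hx, rfl⟩ := hK'.surj hy
    exact ⟨hK'.le_right hy, hK'.mem_normalizer (le_normalizerIn hR₀.1)
      (fun y => ⟨hc.surj, fun ⟨x, hx, e⟩ => e ▸ hc.mem hx⟩) hx hx.2⟩
  clear_value R
  obtain ⟨hRS, T₀, hT₀⟩ := hF.isFullyAutomized_of_isFullyNormalized hS hRn
  have hrec := hF.isReceptive_of_isFullyNormalized hS hRn
  haveI := finite_autGroup (F := F) hRS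
  haveI := finite_of_le hMS
  haveI := finite_autGroup (F := E) hRM
  refine ⟨R, hPRE.isConj, ⟨hRM, ?_⟩, hRM, fun Q φ hφ hφr => ?_⟩
  · -- fully automised
    have hBA : E.autGroup R ≤ F.autGroup R := fun α hα => by
      obtain ⟨f, hf, hfe⟩ := isIso_of_aut hRM hα
      obtain ⟨β, hβ, hβe⟩ := (hf.mono (degreeSystem_le hπ hMS hker)).toAut
      rwa [show α = β from MulEquiv.ext fun x => Subtype.ext ((hfe x).trans (hβe x).symm)]
    haveI hnorm : ((E.autGroup R).subgroupOf (F.autGroup R)).Normal := by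
      refine ⟨?_⟩
      rintro ⟨α, hαF⟩ hα ⟨β, hβ⟩
      obtain ⟨fa, hfa, hfae⟩ := isIso_of_aut hRM (Subgroup.mem_subgroupOf.mp hα)
      obtain ⟨fb, hfb, hfbe⟩ := isIso_of_aut hRS hβ
      obtain ⟨fb', hfb', hfbl, hfbr⟩ := hfb.symm
      have hfaF := hfa.mono (degreeSystem_le hπ hMS hker)
      obtain ⟨db, hdb⟩ := exists_deg (C := C) (π := π) hfb
      have hm : ∀ {f : Ω → Ω}, F.IsIso R R f → ∀ u ∈ R, f u ∈ R ∧ f u ∈ S :=
        fun h u hu => ⟨h.mem hu, h.le_right (h.mem hu)⟩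
      have h1 := ((hdb.symm fun v hv => ⟨hfb'.mem hv, hfbr v hv⟩).comp (hm hfb')
        (deg_of_isIso hπ hMS hker hfa)).comp (hm (hfb'.comp hfaF)) hdb
      rw [mul_one, inv_mul_cancel] at h1
      obtain ⟨γ, hγ, hγe⟩ := (isIso_of_deg hπ hMS hker ((hfb'.comp hfaF).comp hfb) hRM h1).toAut
      refine Subgroup.mem_subgroupOf.mpr ?_
      convert hγ using 1
      refine MulEquiv.ext fun x => Subtype.ext ?_
      rw [hγe]
      have hinv : ((β⁻¹ x : R) : Ω) = fb' x := by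
        conv_rhs => rw [← MulAut.apply_inv_self R β x, hfbe, hfbl _ (β⁻¹ x).2]
      show ((β (α (β⁻¹ x)) : R) : Ω) = fb (fa (fb' x))
      rw [hfbe, hfae, hinv]
    have hW : autInducedBy M R = autInducedBy S R ⊓ E.autGroup R := by
      refine le_antisymm (le_inf (autInducedBy_mono hMS) (autInducedBy_le_autGroup hRM)) ?_
      intro α hα
      obtain ⟨hα1, hα2⟩ := Subgroup.mem_inf.mp hα
      obtain ⟨g, hg, hgn, hge⟩ := mem_autInducedBy_iff.mp hα1
      obtain ⟨f, hf, hfe⟩ := isIso_of_aut hRM hα2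
      have h1 := deg_of_isIso hπ hMS hker hf
      have h2 : Deg C π R f ((π ⟨g, hg⟩ ^ Fintype.card C.Y)⁻¹) :=
        (deg_conj hπ ⟨g, hg⟩).congr fun x hx => (hfe ⟨x, hx⟩).symm.trans (hge ⟨x, hx⟩)
      by_cases hone : (π ⟨g, hg⟩ ^ Fintype.card C.Y)⁻¹ = 1
      · exact mem_autInducedBy_iff.mpr ⟨g, (hker _).mp (eq_one_of_pow hn (inv_eq_one.mp hone)), hgn, hge⟩
      · have ha := deg_id_of_ne hπ (hf.mono (degreeSystem_le hπ hMS hker)) h2 h1
        rw [inv_one, mul_one] at ha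
        obtain ⟨z, hz, hzπ⟩ := exists_free hπ hMS hker hS hrec (F.isConj_refl hRS) hRM ha hone (π ⟨g, hg⟩)⁻¹
        refine mem_autInducedBy_iff.mpr ⟨g * z, ?_, mul_mem hgn (centralizerIn_le_normalizerIn hz).2, fun x => ?_⟩
        · have := (hker (⟨g, hg⟩ * ⟨z, hz.1⟩)).mp (by rw [map_mul, hzπ, mul_inv_cancel])
          exact this
        · rw [hge, mul_inv_rev]
          have := Subgroup.mem_centralizer_iff.mp hz.2 x x.2
          rw [show g * z * (x : Ω) * (z⁻¹ * g⁻¹) = g * (z * x) * z⁻¹ * g⁻¹ by group, ← this]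
          group
    have hp : IsPGroup p ((autInducedBy M R).subgroupOf (E.autGroup R)) :=
      (isPGroup_autInducedBy (hS.to_le hMS)).comap_of_injective _ (Subgroup.subtype_injective _)
    have hidx : ¬ p ∣ ((autInducedBy M R).subgroupOf (E.autGroup R)).index := by
      intro h
      refine T₀.not_dvd_index ?_
      have e1 : ((autInducedBy M R).subgroupOf (E.autGroup R)).index =
          ((T₀ : Subgroup (F.autGroup R))).relIndex ((E.autGroup R).subgroupOf (F.autGroup R)) := by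
        show (autInducedBy M R).relIndex (E.autGroup R) = _
        rw [hT₀, Subgroup.relIndex_subgroupOf hBA, hW, Subgroup.inf_relIndex_right]
      rw [e1] at h
      refine h.trans ?_
      set B' := (E.autGroup R).subgroupOf (F.autGroup R) with hB'
      obtain ⟨m, hm⟩ := Subgroup.relIndex_dvd_index_of_normal B' (T₀ : Subgroup (F.autGroup R))
      have h1 := Subgroup.relIndex_mul_index (inf_le_right : (T₀ : Subgroup (F.autGroup R)) ⊓ B' ≤ B')
      have h2 := Subgroup.relIndex_mul_index (inf_le_left : (T₀ : Subgroup (F.autGroup R)) ⊓ B' ≤ T₀)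
      rw [Subgroup.inf_relIndex_right] at h1
      rw [Subgroup.inf_relIndex_left, ← h1, hm] at h2
      refine ⟨m, Nat.eq_of_mul_eq_mul_left (Nat.pos_of_ne_zero ?_) (h2.trans (mul_left_comm _ _ _))⟩
      exact Subgroup.index_ne_zero_of_finite
    exact ⟨hp.toSylow hidx, rfl⟩
  · -- receptive
    subst hφr
    have hφF : φ ∈ F.Hom Q := hφ.1
    have hφM : ∀ x, φ x ∈ M := E.apply_mem hφ
    have hQM := hφ.2.1
    obtain ⟨ψ, hψ, hψe⟩ := hrec.2 Q φ hφF rfl
    have hle : extender M Q φ ≤ extender S Q φ := fun g hg => by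
      obtain ⟨hgM, hgn, k, hk, hke⟩ := (mem_extender_iff hφM).mp hg
      exact (mem_extender_iff (F.apply_mem hφF)).mpr ⟨hMS hgM, hgn, k, hMS hk, hke⟩
    have hQN : Q ≤ extender M Q φ := le_extender hQM hφM
    have hg := isIso_funOf (F.restrict_mem hψ hle)
    set g := funOf (ψ.comp (Subgroup.inclusion hle)) with hgdef
    have hgQ : ∀ x ∈ Q, g x = funOf φ x := fun x hx => by
      rw [hgdef, ← funOf_apply (ψ.comp (Subgroup.inclusion hle)) ⟨x, hQN hx⟩, ← funOf_apply φ ⟨x, hx⟩]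
      exact hψe x hx _
    have hNM : extender M Q φ ≤ M := (extender_le_normalizerIn hφM).trans normalizerIn_le
    obtain ⟨d, hd⟩ := exists_deg (C := C) (π := π) hg
    suffices H : ∃ g' N', E.IsIso (extender M Q φ) N' g' ∧ ∀ x ∈ Q, g' x = funOf φ x by
      obtain ⟨g', N', ⟨χ, hχ, -, hχe⟩, hg'⟩ := H
      exact ⟨χ, hχ, fun x hx hxN => by rw [hχe, hg' x hx]; exact (funOf_apply φ ⟨x, hx⟩).symm⟩
    by_cases hd1 : d = 1
    · exact ⟨g, _, isIso_of_deg hπ hMS hker hg hNM (hd1 ▸ hd), hgQ⟩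
    · have h1 : Deg C π Q (funOf φ) d := (hd.mono hQN).congr fun x hx => (hgQ x hx).symm
      have ha := deg_id_of_ne hπ (isIso_funOf hφF) h1 hφ.2.2
      rw [inv_one, mul_one] at ha
      obtain ⟨b, hb⟩ := exists_root hn d⁻¹
      obtain ⟨z, hz, rfl⟩ := exists_free hπ hMS hker hS hrec (⟨φ, hφF, rfl⟩ : F.IsConj Q φ.range) hQM ha hd1 b
      have hcz := isIso_conj (E := F) hg.le_right hz.1
      have hd2 := hd.comp (fun u hu => ⟨hg.mem hu, hg.le_right (hg.mem hu)⟩)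
        (deg_conj hπ (P := (ψ.comp (Subgroup.inclusion hle)).range) ⟨z, hz.1⟩)
      rw [hb, mul_inv_cancel] at hd2
      refine ⟨_, _, isIso_of_deg hπ hMS hker (hg.comp hcz) hNM hd2, fun x hx => ?_⟩
      show z * g x * z⁻¹ = _
      rw [hgQ x hx]
      have := Subgroup.mem_centralizer_iff.mp hz.2 (funOf φ x) ⟨⟨x, hx⟩, funOf_apply φ ⟨x, hx⟩⟩
      rw [← this]
      group

omit hsurj hF hn in
theorem degreeSystem_index (hfoc : F.focalSubgroup ≤ M) :
    (degreeSystem (C := C) hπ hMS hker).HasPPowerIndexIn F p := by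
  refine ⟨degreeSystem_le hπ hMS hker, hyperfocalSubgroup_le_focalSubgroup.trans hfoc, fun P hP => ?_⟩
  rw [pResidual, Subgroup.map_le_iff_le_comap, Subgroup.closure_le]
  rintro ⟨α, hα⟩ hm
  replace hm : (orderOf α).Coprime p := by rw [← Subgroup.orderOf_mk α hα]; exact hm
  have hPS := hP.trans hMS
  haveI := finite_of_le hPS
  obtain ⟨f, hf, hfe⟩ := isIso_of_aut hPS hα
  obtain ⟨d, hd⟩ := exists_deg (C := C) (π := π) hf
  suffices h1 : Deg C π P f 1 by
    obtain ⟨β, hβ, hβe⟩ := (isIso_of_deg hπ hMS hker hf hP h1).toAut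
    show α ∈ (degreeSystem (C := C) hπ hMS hker).autGroup P
    rwa [show α = β from MulEquiv.ext fun x => Subtype.ext ((hfe x).trans (hβe x).symm)]
  by_cases hd1 : d = 1
  · exact hd1 ▸ hd
  have hiter : ∀ j : ℕ, Deg C π P (f^[j]) (d ^ j) ∧ ∀ x : P, (((α ^ j) x : P) : Ω) = f^[j] x := by
    intro j
    induction j with
    | zero => exact ⟨by rw [pow_zero]; exact deg_id_one hπ P, fun x => rfl⟩
    | succ j ih =>
      refine ⟨?_, fun x => ?_⟩
      · rw [pow_succ']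
        have hm' : ∀ u ∈ P, f u ∈ P ∧ f u ∈ S := fun u hu => ⟨hf.mem hu, hPS (hf.mem hu)⟩
        exact Deg.congr (hd.comp hm' ih.1) fun x _ => Function.iterate_succ_apply f j x
      · rw [pow_succ', MulAut.mul_apply, hfe, ih.2, Function.iterate_succ_apply']
  have hid : Deg C π P (fun x => x) (d ^ orderOf α) := (hiter _).1.congr fun x hx => by
    have h := (hiter (orderOf α)).2 ⟨x, hx⟩
    rw [pow_orderOf_eq_one] at h
    exact h
  exact deg_any hπ hPS hd hid (fun h => hd1 (eq_one_of_pow hm h)) 1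

end Cfsg.FusionSystem.IndexPower

namespace Cfsg.FusionSystem

open IndexPower
open scoped commutatorElement

variable {Ω : Type u} [Group Ω] {p : ℕ} [Fact p.Prime]

/-- A step of index `p`. -/
theorem IsSaturated.exists_pPowerIndex_step {S : Subgroup Ω} [Finite S] {F : FusionSystem S}
    (hF : F.IsSaturated p) (hS : IsPGroup p S) {M : Subgroup Ω} (hMS : M ≤ S) [hn : (M.subgroupOf S).Normal]
    (hidx : (M.subgroupOf S).index = p) (hH : F.hyperfocalSubgroup p ≤ M) :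
    ∃ E : FusionSystem M, E.IsSaturated p ∧ E.HasPPowerIndexIn F p := by
  let e : S ⧸ M.subgroupOf S ≃* Multiplicative (ZMod p) := mulEquivOfPrimeCardEq hidx (by simp)
  let π : S →* Multiplicative (ZMod p) := e.toMonoidHom.comp (QuotientGroup.mk' _)
  have hker : ∀ s : S, π s = 1 ↔ (s : Ω) ∈ M := fun s => by
    show e _ = 1 ↔ _
    rw [EmbeddingLike.map_eq_one_iff, QuotientGroup.mk'_apply, QuotientGroup.eq_one_iff]
    exact Subgroup.mem_subgroupOf
  have hsurj : Function.Surjective π := e.surjective.comp (QuotientGroup.mk'_surjective _)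
  have hfoc : F.focalSubgroup ≤ M := hF.focalSubgroup_le hS (by
    rw [Subgroup.commutator_le]
    intro a ha b hb
    refine (hker ⁅(⟨a, ha⟩ : S), (⟨b, hb⟩ : S)⁆).mp ?_
    rw [commutatorElement_def, map_mul, map_mul, map_mul, map_inv, map_inv, mul_comm (π _) (π _)]
    group) hH
  have hπ : ∀ (P : Subgroup Ω) (φ : P →* Ω) (hφ : φ ∈ F.Hom P) (u : P),
      π ⟨φ u, F.apply_mem hφ u⟩ = π ⟨u, F.source_le hφ u.2⟩ := by
    intro P φ hφ u
    have h1 := (hker ((⟨u, F.source_le hφ u.2⟩ : S)⁻¹ * ⟨φ u, F.apply_mem hφ u⟩)).mpr (hfoc (focal_gen_mem hφ u))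
    rw [map_mul, map_inv, inv_mul_eq_one] at h1
    exact h1.symm
  obtain ⟨C, hC⟩ := hF.exists_cocycle hS
  exact ⟨degreeSystem (C := C) hπ hMS hker, degreeSystem_isSaturated hπ hMS hker hS hF hsurj hC,
    degreeSystem_index hπ hMS hker hS hfoc⟩

/-- Saturated subsystems of `p`-power index exist over every subgroup containing the hyperfocal subgroup. -/
theorem IsSaturated.exists_pPowerIndex : ∀ {S : Subgroup Ω} [Finite S] {F : FusionSystem S},
    F.IsSaturated p → IsPGroup p S → ∀ {T : Subgroup Ω}, T ≤ S → F.hyperfocalSubgroup p ≤ T →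
      ∃ E : FusionSystem T, E.IsSaturated p ∧ E.HasPPowerIndexIn F p := by
  suffices H : ∀ (n : ℕ) (S : Subgroup Ω), Nat.card S = n → Finite S → ∀ F : FusionSystem S,
      F.IsSaturated p → IsPGroup p S → ∀ T : Subgroup Ω, T ≤ S → F.hyperfocalSubgroup p ≤ T →
        ∃ E : FusionSystem T, E.IsSaturated p ∧ E.HasPPowerIndexIn F p from
    fun {S} hfin {F} hF hS {T} hTS hT => H _ S rfl hfin F hF hS T hTS hT
  intro n
  induction n using Nat.strong_induction_on with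
  | _ n ih =>
  intro S hn hfin F hF hS T hTS hT
  by_cases hTe : T = S
  · subst hTe
    exact ⟨F, hF, fun _ _ h => h, hT, fun P _ => Subgroup.map_subtype_le _⟩
  obtain ⟨M, ⟨hTM, hMlt⟩, hmax⟩ := Set.exists_max_image {M : Subgroup Ω | T ≤ M ∧ M < S}
    (fun M => Nat.card M) ((finite_setOf_le S).subset fun M hM => hM.2.le) ⟨T, le_rfl, lt_of_le_of_ne hTS hTe⟩
  have hMS := hMlt.le
  have hup : ∀ N : Subgroup Ω, M < N → N ≤ S → N = S := by
    intro N hN hNS
    by_contra hne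
    haveI := finite_of_le hNS
    have h1 := hmax N ⟨hTM.trans hN.le, lt_of_le_of_ne hNS hne⟩
    exact hN.ne (Subgroup.eq_of_le_of_card_ge hN.le h1)
  have hNS : normalizerIn S M = S := hup _ (lt_normalizerIn hS hMlt) normalizerIn_le
  haveI : (M.subgroupOf S).Normal := by
    refine ⟨fun x hx g => ?_⟩
    have hg : (g : Ω) ∈ normalizerIn S M := hNS.ge g.2
    exact Subgroup.mem_subgroupOf.mpr ((Subgroup.mem_normalizer_iff.mp hg.2 _).mp hx)
  have hidx : (M.subgroupOf S).index = p := by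
    have hne : M.subgroupOf S ≠ ⊤ := fun h => hMlt.not_ge (Subgroup.subgroupOf_eq_top.mp h)
    have hnt : Nontrivial (S ⧸ M.subgroupOf S) :=
      Finite.one_lt_card_iff_nontrivial.mp (by
        show 1 < (M.subgroupOf S).index
        have := Subgroup.index_ne_zero_of_finite (H := M.subgroupOf S)
        have h1 : (M.subgroupOf S).index ≠ 1 := mt Subgroup.index_eq_one.mp hne
        omega)
    obtain ⟨m, hm, hc⟩ := (hS.to_quotient (M.subgroupOf S)).nontrivial_iff_card.mp hnt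
    obtain ⟨x, hx⟩ := exists_prime_orderOf_dvd_card' (G := S ⧸ M.subgroupOf S) p (hc ▸ dvd_pow_self p (by omega))
    obtain ⟨s, rfl⟩ := QuotientGroup.mk'_surjective _ x
    have hsM : (s : Ω) ∉ M := fun h => by
      rw [show QuotientGroup.mk' (M.subgroupOf S) s = 1 from (QuotientGroup.eq_one_iff s).mpr h, orderOf_one] at hx
      exact (Fact.out : p.Prime).ne_one hx.symm
    let N' := (Subgroup.zpowers (QuotientGroup.mk' (M.subgroupOf S) s)).comap (QuotientGroup.mk' _)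
    have hN : N'.map S.subtype = S := by
      refine hup _ (lt_of_le_of_ne (fun x hx => ⟨⟨x, hMS hx⟩, ?_, rfl⟩) fun e => hsM (e.ge ⟨s, ?_, rfl⟩))
        (Subgroup.map_subtype_le _)
      · refine Subgroup.mem_comap.mpr ?_
        have h1 : QuotientGroup.mk' (M.subgroupOf S) (⟨x, hMS hx⟩ : S) = 1 :=
          (QuotientGroup.eq_one_iff _).mpr hx
        rw [h1]
        exact one_mem _
      · exact Subgroup.mem_zpowers _
    have htop : N' = ⊤ := by
      refine eq_top_iff.mpr fun y _ => ?_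
      obtain ⟨y', hy', e⟩ := hN.ge y.2
      rwa [← Subtype.ext (a1 := y') (a2 := y) e]
    have h2 : Subgroup.zpowers (QuotientGroup.mk' (M.subgroupOf S) s) = ⊤ := by
      refine eq_top_iff.mpr fun y _ => ?_
      obtain ⟨y, rfl⟩ := QuotientGroup.mk'_surjective _ y
      exact htop.ge (Subgroup.mem_top y)
    show Nat.card (S ⧸ M.subgroupOf S) = p
    rw [← hx, ← Nat.card_zpowers, h2, Subgroup.card_top]
  obtain ⟨E₁, hE₁, hi₁⟩ := hF.exists_pPowerIndex_step hS hMS hidx (hT.trans hTM)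
  haveI := finite_of_le hMS
  have hcard : Nat.card M < n := hn ▸ lt_of_le_of_ne (Subgroup.card_le_of_le hMS) fun h =>
    hMlt.ne (Subgroup.eq_of_le_of_card_ge hMS h.ge)
  have hH₁ : E₁.hyperfocalSubgroup p ≤ T := hyperfocalSubgroup_le_iff.mpr fun P hP α hα hp x =>
    hT (hyperfocal_gen_mem (hP.trans hMS) ((F.mem_autGroup_iff (hP.trans hMS)).mpr
      (hi₁.1 P ((E₁.mem_autGroup_iff hP).mp hα))) hp x)
  obtain ⟨E, hE, hi⟩ := ih _ hcard M rfl inferInstance E₁ hE₁ (hS.to_le hMS) T hTM hH₁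
  refine ⟨E, hE, fun P φ hφ => hi₁.1 P (hi.1 P hφ), hT, fun P hP => ?_⟩
  rw [pResidual, Subgroup.map_le_iff_le_comap, Subgroup.closure_le]
  rintro ⟨α, hα⟩ hm
  replace hm : (orderOf α).Coprime p := by rw [← Subgroup.orderOf_mk α hα]; exact hm
  have h1 : α ∈ E₁.autGroup P := hi₁.2.2 P (hP.trans hTM) ⟨⟨α, hα⟩,
    CfsgLib.Transfer.mem_pResidual_of_coprime (by rw [Subgroup.orderOf_mk]; exact hm), rfl⟩
  exact hi.2.2 P hP ⟨⟨α, h1⟩,
    CfsgLib.Transfer.mem_pResidual_of_coprime (by rw [Subgroup.orderOf_mk]; exact hm), rfl⟩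

/-- Existence and uniqueness. -/
theorem IsSaturated.existsUnique_pPowerIndex {S : Subgroup Ω} [Finite S] {F : FusionSystem S}
    (hF : F.IsSaturated p) (hS : IsPGroup p S) {T : Subgroup Ω} (hTS : T ≤ S)
    (hT : F.hyperfocalSubgroup p ≤ T) :
    ∃ E : FusionSystem T, (E.IsSaturated p ∧ E.HasPPowerIndexIn F p) ∧
      ∀ E' : FusionSystem T, E'.IsSaturated p → E'.HasPPowerIndexIn F p → E' = E := by
  obtain ⟨E, hE, hi⟩ := hF.exists_pPowerIndex hS hTS hT
  refine ⟨E, ⟨hE, hi⟩, fun E' hE' hi' => ?_⟩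
  have h : E'.Hom = E.Hom := funext fun P => Set.Subset.antisymm
    (hE'.le_pPowerIndex (finite_of_le hTS) hS hi'.1 hTS le_rfl E hi P)
    (hE.le_pPowerIndex (finite_of_le hTS) hS hi.1 hTS le_rfl E' hi' P)
  cases E'
  cases E
  cases h
  rfl

end Cfsg.FusionSystem
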