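import Cfsg.Agent.Lib.Fusion.Iso
import Cfsg.Agent.Lib.Fusion.Transfer.Cocycle

/-!
Degrees of maps measured by relabellings of a stable biset, for a character invariant under the system.
-/

set_option autoImplicit false
set_option linter.unusedSectionVars false

universe u v

namespace Cfsg.FusionSystem.IndexPower

/-- A function whose products over all cycles are trivial has trivial total product. -/
theorem prod_eq_one_of_cycles {Y : Type u} [Fintype Y] {A : Type v} [CommGroup A] (τ : Equiv.Perm Y) (f : Y → A)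
    (h : ∀ (y : Y) (m : ℕ), (τ ^ m) y = y → ∏ i ∈ Finset.range m, f ((τ ^ i) y) = 1) : ∏ y, f y = 1 := by
  classical
  let r : Setoid Y := Equiv.Perm.SameCycle.setoid τ
  let rep : Y → Y := fun y => (Quotient.mk r y).out
  have hrep : ∀ y, ∃ i : ℕ, (τ ^ i) (rep y) = y := fun y => by
    obtain ⟨i, -, -, hi⟩ := Equiv.Perm.SameCycle.exists_pow_eq'' (show τ.SameCycle (rep y) y from Quotient.mk_out (s := r) y)
    exact ⟨i, hi⟩
  choose idx hidx using hrep
  let G : Y → ℕ → A := fun y i => ∏ j ∈ Finset.range i, f ((τ ^ j) y)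
  have hwd : ∀ (y : Y) (i j : ℕ), i ≤ j → (τ ^ i) y = (τ ^ j) y → G y i = G y j := by
    intro y i j hij he
    obtain ⟨m, rfl⟩ := Nat.exists_eq_add_of_le hij
    have h1 : (τ ^ m) ((τ ^ i) y) = (τ ^ i) y := by
      rw [← Equiv.Perm.mul_apply, ← pow_add, add_comm, ← he]
    have h2 := h _ m h1
    show _ = ∏ l ∈ Finset.range (i + m), f ((τ ^ l) y)
    rw [Finset.prod_range_add]
    have h3 : ∀ l, f ((τ ^ (i + l)) y) = f ((τ ^ l) ((τ ^ i) y)) := fun l => by
      rw [← Equiv.Perm.mul_apply, ← pow_add, add_comm]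
    rw [Finset.prod_congr rfl fun l _ => h3 l, h2, mul_one]
  let g : Y → A := fun y => G (rep y) (idx y)
  have hg : ∀ y, g (τ y) = g y * f y := by
    intro y
    have hr : rep (τ y) = rep y := by
      show (Quotient.mk r (τ y)).out = _
      rw [Quotient.sound (s := r) (show τ.SameCycle (τ y) y from Equiv.Perm.SameCycle.symm ⟨1, by simp⟩)]
    have e1 : (τ ^ (idx y + 1)) (rep y) = τ y := by rw [pow_succ', Equiv.Perm.mul_apply, hidx]
    have e2 : (τ ^ idx (τ y)) (rep y) = τ y := by rw [← hr]; exact hidx (τ y)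
    have e3 : G (rep y) (idx (τ y)) = G (rep y) (idx y + 1) := by
      rcases le_total (idx (τ y)) (idx y + 1) with h | h
      · exact hwd _ _ _ h (e2.trans e1.symm)
      · exact (hwd _ _ _ h (e1.trans e2.symm)).symm
    show G (rep (τ y)) (idx (τ y)) = G (rep y) (idx y) * f y
    rw [hr, e3]
    show ∏ j ∈ Finset.range (idx y + 1), _ = _
    rw [Finset.prod_range_succ, hidx]
  have h1 : ∏ y, g (τ y) = ∏ y, g y := Fintype.prod_equiv τ _ _ fun _ => rfl
  rw [Finset.prod_congr rfl fun y _ => hg y, Finset.prod_mul_distrib] at h1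
  exact mul_eq_left.mp h1

variable {Ω : Type u} [Group Ω] {S : Subgroup Ω} {F : FusionSystem S}
  {A : Type v} [CommGroup A]

/-- `d` is a degree of `f` on `P`. -/
def Deg (C : F.Cocycle) (π : S →* A) (P : Subgroup Ω) (f : Ω → Ω) (d : A) : Prop :=
  ∃ (e : C.Y ≃ C.Y) (k : C.Y → S),
    (∀ u, u ∈ P → ∀ (hu : u ∈ S) (hv : f u ∈ S) (y : C.Y),
      e ((⟨u, hu⟩ : S) • y) = (⟨f u, hv⟩ : S) • e y ∧
      C.η ⟨f u, hv⟩ (e y) = (k ((⟨u, hu⟩ : S) • y))⁻¹ * C.η ⟨u, hu⟩ y * k y) ∧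
    ∏ y, π (k y) = d

variable {C : F.Cocycle} {π : S →* A}

theorem Deg.mono {P Q : Subgroup Ω} {f : Ω → Ω} {d : A} (h : Deg C π P f d) (hQP : Q ≤ P) : Deg C π Q f d := by
  obtain ⟨e, k, he, hd⟩ := h
  exact ⟨e, k, fun u hu => he u (hQP hu), hd⟩

theorem Deg.congr {P : Subgroup Ω} {f g : Ω → Ω} {d : A} (h : Deg C π P f d) (he : ∀ x ∈ P, g x = f x) :
    Deg C π P g d := by
  obtain ⟨e, k, hek, hd⟩ := h
  refine ⟨e, k, fun u hu hu' hv y => ?_, hd⟩
  have hv' : f u ∈ S := he u hu ▸ hv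
  rw [show (⟨g u, hv⟩ : S) = ⟨f u, hv'⟩ from Subtype.ext (he u hu)]
  exact hek u hu hu' hv' y

theorem exists_deg {P Q : Subgroup Ω} {f : Ω → Ω} (h : F.IsIso P Q f) : ∃ d, Deg C π P f d := by
  obtain ⟨φ, hφ, -, hφe⟩ := h
  obtain ⟨e, k, he⟩ := C.twist P φ hφ
  refine ⟨_, e, k, fun u hu hu' hv y => ?_, rfl⟩
  have e1 : (⟨f u, hv⟩ : S) = ⟨φ ⟨u, hu⟩, F.apply_mem hφ _⟩ := Subtype.ext (hφe ⟨u, hu⟩).symm
  rw [e1]
  exact he ⟨u, hu⟩ y

theorem Deg.comp {P Q : Subgroup Ω} {f g : Ω → Ω} {d d' : A} (hPf : ∀ u ∈ P, f u ∈ Q ∧ f u ∈ S)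
    (h : Deg C π P f d) (h' : Deg C π Q g d') : Deg C π P (fun x => g (f x)) (d * d') := by
  obtain ⟨e, k, he, hd⟩ := h
  obtain ⟨e', k', he', hd'⟩ := h'
  refine ⟨e.trans e', fun y => k y * k' (e y), fun u hu hu' hv y => ?_, ?_⟩
  · obtain ⟨h1, h2⟩ := he u hu hu' (hPf u hu).2 y
    obtain ⟨h3, h4⟩ := he' (f u) (hPf u hu).1 (hPf u hu).2 hv (e y)
    refine ⟨?_, ?_⟩
    · show e' (e _) = _ • e' (e y)
      rw [h1, h3]
    · show C.η ⟨g (f u), hv⟩ (e' (e y)) = (k _ * k' (e _))⁻¹ * _ * (k y * k' (e y))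
      rw [h1, h4, h2]
      group
  · simp only [map_mul, Finset.prod_mul_distrib]
    rw [hd, Fintype.prod_equiv e (fun y => π (k' (e y))) (fun y => π (k' y)) fun _ => rfl, hd']

theorem Deg.symm {P Q : Subgroup Ω} {f g : Ω → Ω} {d : A} (h : Deg C π P f d)
    (hQ : ∀ v ∈ Q, g v ∈ P ∧ f (g v) = v) : Deg C π Q g d⁻¹ := by
  obtain ⟨e, k, he, hd⟩ := h
  refine ⟨e.symm, fun y => (k (e.symm y))⁻¹, fun v hv hvS hg y => ?_, ?_⟩
  · obtain ⟨hgP, hfg⟩ := hQ v hv
    have hfS : f (g v) ∈ S := by rw [hfg]; exact hvS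
    obtain ⟨h1, h2⟩ := he (g v) hgP hg hfS (e.symm y)
    rw [show (⟨f (g v), hfS⟩ : S) = ⟨v, hvS⟩ from Subtype.ext hfg, Equiv.apply_symm_apply] at h1 h2
    have h3 : e.symm ((⟨v, hvS⟩ : S) • y) = (⟨g v, hg⟩ : S) • e.symm y := e.symm_apply_eq.mpr h1.symm
    refine ⟨h3, ?_⟩
    show _ = ((k (e.symm ((⟨v, hvS⟩ : S) • y)))⁻¹)⁻¹ * C.η ⟨v, hvS⟩ y * (k (e.symm y))⁻¹
    rw [h3, h2]
    group
  · simp only [map_inv, Finset.prod_inv_distrib]
    rw [Fintype.prod_equiv e.symm (fun y => π (k (e.symm y))) (fun y => π (k y)) fun _ => rfl, hd]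

variable (hπ : ∀ (P : Subgroup Ω) (φ : P →* Ω) (hφ : φ ∈ F.Hom P) (u : P),
    π ⟨φ u, F.apply_mem hφ u⟩ = π ⟨u, F.source_le hφ u.2⟩)

include hπ

theorem deg_conj {P : Subgroup Ω} (s : S) :
    Deg C π P (fun x => (s : Ω) * x * (s : Ω)⁻¹) ((π s ^ Fintype.card C.Y)⁻¹) := by
  refine ⟨MulAction.toPerm s, fun y => (C.η s y)⁻¹, fun u _ hu' hv y => ?_, ?_⟩
  · have hmul : (⟨(s : Ω) * u * (s : Ω)⁻¹, hv⟩ : S) * s = s * ⟨u, hu'⟩ := Subtype.ext (by simp)
    refine ⟨?_, ?_⟩
    · show s • ((⟨u, hu'⟩ : S) • y) = (⟨(s : Ω) * u * (s : Ω)⁻¹, hv⟩ : S) • (s • y)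
      rw [← mul_smul, ← mul_smul, hmul]
    · show C.η _ (s • y) = ((C.η s _)⁻¹)⁻¹ * _ * (C.η s y)⁻¹
      have h := congrArg (fun g => C.η g y) hmul
      simp only [C.η_mul] at h
      rw [inv_inv, ← h, mul_inv_cancel_right]
  · simp only [map_inv, Finset.prod_inv_distrib]
    rw [← C.transfer_apply, C.transfer_eq_pow π hπ]

variable (p : ℕ) [Fact p.Prime] (hA : ∀ a : A, a ^ p = 1)

include hA

/-- A nontrivial degree of an identity map comes from an element centralising a conjugate. -/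
theorem exists_centralizing {P : Subgroup Ω} [Finite P] (hP : IsPGroup p P) (hPS : P ≤ S)
    (hPπ : ∀ (u : Ω) (hu : u ∈ P), π ⟨u, hPS hu⟩ = 1) {d : A} (hd : Deg C π P (fun x => x) d) (hd1 : d ≠ 1) :
    ∃ Q, F.IsConj P Q ∧ ∃ (z : Ω) (hz : z ∈ centralizerIn S Q), π ⟨z, hz.1⟩ ≠ 1 := by
  classical
  obtain ⟨τ, w, hτw, hd⟩ := hd
  let i : P → S := fun u => ⟨u, hPS u.2⟩
  have hτ : ∀ (u : P) (y : C.Y), τ (i u • y) = i u • τ y := fun u y => (hτw u u.2 (hPS u.2) (hPS u.2) y).1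
  have hw : ∀ (u : P) (y : C.Y), C.η (i u) (τ y) = (w (i u • y))⁻¹ * C.η (i u) y * w y :=
    fun u y => (hτw u u.2 (hPS u.2) (hPS u.2) y).2
  obtain ⟨v, hv⟩ := C.exists_equivariant π fun R φ hφ => ⟨1, fun u => by simp [hπ R φ hφ u]⟩
  let f : C.Y → A := fun y => π (w y) * (v y / v (τ y))
  have hprod : ∏ y, f y = d := by
    simp only [f, Finset.prod_mul_distrib, Finset.prod_div_distrib]
    rw [Fintype.prod_equiv τ (fun y => v (τ y)) v fun _ => rfl, div_self', mul_one, hd]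
  have hinv : ∀ (u : P) (y : C.Y), f (i u • y) = f y := by
    intro u y
    have h1 := congrArg π (hw u y)
    rw [map_mul, map_mul, map_inv] at h1
    have h2 : ∀ z, v (i u • z) = v z * (π (C.η (i u) z))⁻¹ := fun z => by rw [hv, hPπ u u.2, one_mul]
    show π (w (i u • y)) * (v (i u • y) / v (τ (i u • y))) = π (w y) * (v y / v (τ y))
    rw [hτ, h2, h2, h1, div_eq_mul_inv, div_eq_mul_inv]
    simp only [mul_inv_rev, inv_inv]
    simp [mul_comm, mul_assoc, mul_left_comm]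
  -- only the fixed points contribute
  letI : MulAction P C.Y := MulAction.compHom _ (Subgroup.inclusion hPS)
  have hsmul : ∀ (u : P) (y : C.Y), u • y = i u • y := fun _ _ => rfl
  let f' : C.Y → A := fun y => if y ∈ MulAction.fixedPoints P C.Y then f y else 1
  have hff : ∏ y, f y = ∏ y, f' y := by
    let g : C.Y → A := fun y => if y ∈ MulAction.fixedPoints P C.Y then 1 else f y
    have hg : ∏ y, g y = 1 := by
      rw [← Finset.prod_fiberwise Finset.univ (fun y => (Quotient.mk (MulAction.orbitRel P C.Y) y)) g]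
      refine Finset.prod_eq_one fun o _ => ?_
      obtain ⟨y₀, rfl⟩ := Quotient.exists_rep o
      by_cases hy : y₀ ∈ MulAction.fixedPoints P C.Y
      · refine Finset.prod_eq_one fun y hy' => if_pos ?_
        obtain ⟨u, hu⟩ := Quotient.exact (Finset.mem_filter.mp hy').2
        simp only at hu
        rw [← hu, hy u]
        exact hy
      · have hval : ∀ y ∈ Finset.univ.filter (fun y => (Quotient.mk (MulAction.orbitRel P C.Y) y) =
            Quotient.mk (MulAction.orbitRel P C.Y) y₀), g y = f y₀ := by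
          intro y hy'
          obtain ⟨u, hu⟩ := Quotient.exact (Finset.mem_filter.mp hy').2
          simp only at hu
          subst hu
          rw [show g (u • y₀) = f (u • y₀) from if_neg fun h => hy (by
            have h1 := h u⁻¹
            rw [inv_smul_smul] at h1
            rw [h1]; exact h), hsmul, hinv]
        rw [Finset.prod_congr rfl hval, Finset.prod_const]
        have hcard : (Finset.univ.filter (fun y => (Quotient.mk (MulAction.orbitRel P C.Y) y) =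
            Quotient.mk (MulAction.orbitRel P C.Y) y₀)).card = Nat.card (MulAction.orbit P y₀) := by
          rw [Nat.card_eq_fintype_card, ← Set.toFinset_card]
          congr 1
          ext y
          rw [Finset.mem_filter, Set.mem_toFinset]
          exact ⟨fun h => Quotient.exact h.2,
            fun h => ⟨Finset.mem_univ _, Quotient.sound h⟩⟩
        rw [hcard]
        obtain ⟨m, hm⟩ := hP.card_orbit y₀
        rcases Nat.eq_zero_or_pos m with rfl | hm0
        · refine absurd (MulAction.mem_fixedPoints'.mpr fun y' hy' => ?_) hy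
          rw [pow_zero, Nat.card_eq_one_iff_unique] at hm
          have := hm.1
          exact congrArg Subtype.val
            (Subsingleton.elim (⟨y', hy'⟩ : MulAction.orbit P y₀) ⟨y₀, MulAction.mem_orbit_self y₀⟩)
        · rw [hm, show m = m - 1 + 1 by omega, pow_succ', pow_mul, hA, one_pow]
    calc ∏ y, f y = ∏ y, f' y * g y := Finset.prod_congr rfl fun y _ => by
          by_cases hy : y ∈ MulAction.fixedPoints P C.Y
          · simp only [f', g, if_pos hy, mul_one]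
          · simp only [f', g, if_neg hy, one_mul]
      _ = ∏ y, f' y := by rw [Finset.prod_mul_distrib, hg, mul_one]
  rw [← hprod, hff] at hd1
  obtain ⟨y, m, hm, hne⟩ : ∃ (y : C.Y) (m : ℕ), (τ ^ m) y = y ∧
      ∏ j ∈ Finset.range m, f' ((τ ^ j) y) ≠ 1 := by
    by_contra h
    push Not at h
    exact hd1 (prod_eq_one_of_cycles τ f' h)
  have hτfix : ∀ z, z ∈ MulAction.fixedPoints P C.Y → τ z ∈ MulAction.fixedPoints P C.Y := fun z hz u => by
    rw [hsmul, ← hτ, ← hsmul, hz u]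
  have hpow : ∀ (j : ℕ) (z : C.Y), z ∈ MulAction.fixedPoints P C.Y → (τ ^ j) z ∈ MulAction.fixedPoints P C.Y := by
    intro j
    induction j with
    | zero => exact fun z hz => hz
    | succ j ih =>
      intro z hz
      rw [pow_succ', Equiv.Perm.mul_apply]
      exact hτfix _ (ih z hz)
  have hy : y ∈ MulAction.fixedPoints P C.Y := by
    by_contra hy
    refine hne (Finset.prod_eq_one fun j hj => if_neg fun hj' => hy ?_)
    have h := hpow (m - j) _ hj'
    rwa [← Equiv.Perm.mul_apply, ← pow_add, Nat.sub_add_cancel (Finset.mem_range.mp hj).le, hm] at h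
  -- the product of the labels along the cycle
  have key : ∀ l, ∃ W : S, (∀ u : P, C.η (i u) ((τ ^ l) y) = W⁻¹ * C.η (i u) y * W) ∧
      ∏ j ∈ Finset.range l, f' ((τ ^ j) y) = π W * (v y / v ((τ ^ l) y)) := by
    intro l
    induction l with
    | zero => exact ⟨1, fun u => by simp, by simp⟩
    | succ l ih =>
      obtain ⟨W, hW, hWp⟩ := ih
      refine ⟨W * w ((τ ^ l) y), fun u => ?_, ?_⟩
      · rw [pow_succ', Equiv.Perm.mul_apply, hw]
        rw [← hsmul, hpow l y hy u, hW]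
        group
      · rw [Finset.prod_range_succ, hWp, show f' ((τ ^ l) y) = f ((τ ^ l) y) from if_pos (hpow l y hy)]
        show _ * (π (w _) * (v _ / v (τ _))) = _
        rw [pow_succ', Equiv.Perm.mul_apply, map_mul, mul_mul_mul_comm, div_mul_div_cancel]
  obtain ⟨W, hW, hWp⟩ := key m
  rw [hWp, hm, div_self', mul_one] at hne
  obtain ⟨Q₀, φ, hφ, hd₀⟩ := C.diag y
  obtain ⟨ψ, hψ, hψe⟩ := F.inv_mem hφ
  have hPφ : P ≤ φ.range := fun u hu => by
    obtain ⟨h, e⟩ := hd₀ (i ⟨u, hu⟩) (hy ⟨u, hu⟩)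
    exact ⟨_, e⟩
  refine ⟨(ψ.comp (Subgroup.inclusion hPφ)).range, ⟨_, F.restrict_mem hψ hPφ, rfl⟩, (W : Ω),
    ⟨W.2, Subgroup.mem_centralizer_iff.mpr ?_⟩, hne⟩
  rintro _ ⟨u, rfl⟩
  obtain ⟨h, e⟩ := hd₀ (i u) (hy u)
  have hval : ψ.comp (Subgroup.inclusion hPφ) u = ((C.η (i u) y : S) : Ω) := by
    have h1 := hψe ⟨_, h⟩
    rw [show (⟨φ ⟨_, h⟩, ⟨_, rfl⟩⟩ : φ.range) = Subgroup.inclusion hPφ u from Subtype.ext e] at h1
    exact h1
  rw [hval]
  have h2 := hW u
  rw [hm, mul_assoc, eq_inv_mul_iff_mul_eq] at h2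
  exact (congrArg Subtype.val h2).symm

end Cfsg.FusionSystem.IndexPower
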